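import Groth.Agent.QA.Props
import Groth.Agent.AlgSpLib.DiagProp
import Mathlib.AlgebraicGeometry.PointsPi

/-!
Points of quasi-separated algebraic spaces with values in products of rings.
-/

set_option autoImplicit false
set_option linter.style.haveILetI false
set_option backward.isDefEq.respectTransparency false

universe u

noncomputable section

open CategoryTheory CategoryTheory.Limits AlgebraicGeometry Opposite AlgSp

namespace Groth.Agent.SpPointsPi

variable {ι : Type u} (R : ι → CommRingCat.{u})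

theorem exists_section_of_mono {E : Scheme.{u}} (g : E ⟶ Spec (CommRingCat.of (Π i, R i))) [Mono g]
    [QuasiCompact g] [LocallyOfFiniteType g] [LocallyQuasiFinite g] (e : ∀ i, Spec (R i) ⟶ E)
    (he : ∀ i, e i ≫ g = Spec.map (CommRingCat.ofHom (Pi.evalRingHom (R ·) i))) :
    ∃ l, l ≫ g = 𝟙 _ := by
  haveI : IsSeparated g := inferInstance
  haveI hE : E.IsQuasiAffine := by
    have h := (Groth.Agent.QA.of_locallyQuasiFinite g).2 ⊤ (isAffineOpen_top _)
    haveI : CompactSpace E := QuasiCompact.compactSpace_of_compactSpace g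
    haveI : Scheme.IsQuasiAffine (⊤ : E.Opens).toScheme := h
    exact Scheme.IsQuasiAffine.of_isImmersion E.topIso.inv
  obtain ⟨s, hs⟩ := pointsPi_surjective_of_isAffine R (Spec Γ(E, ⊤)) (fun i => e i ≫ E.toSpecΓ)
  have hσ : sigmaSpec R ≫ s = Sigma.desc e ≫ E.toSpecΓ := Sigma.hom_ext _ _ fun i => by
    rw [ι_sigmaSpec_assoc, Sigma.ι_desc_assoc]
    exact congrFun hs i
  have hU : s ⁻¹ᵁ E.toSpecΓ.opensRange = ⊤ := by
    refine eq_top_of_sigmaSpec_subset_of_isCompact R _ (s ⁻¹ᵁ E.toSpecΓ.opensRange : Set _) ?_ ?_ subset_rfl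
    · rintro _ ⟨z, rfl⟩
      exact ⟨(Sigma.desc e) z, (congrArg (fun k => k z) hσ).symm⟩
    · exact QuasiCompact.isCompact_preimage (f := s) _ E.toSpecΓ.opensRange.isOpen
        (isCompact_range E.toSpecΓ.continuous)
  have hr : Set.range s ⊆ Set.range E.toSpecΓ := by
    rintro _ ⟨z, rfl⟩
    have hz : z ∈ s ⁻¹ᵁ E.toSpecΓ.opensRange := hU ▸ trivial
    exact hz
  refine ⟨IsOpenImmersion.lift E.toSpecΓ s hr, pointsPi_injective R _ (funext fun i => ?_)⟩
  show _ ≫ _ ≫ g = _ ≫ 𝟙 _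
  have hl : Spec.map (CommRingCat.ofHom (Pi.evalRingHom (R ·) i)) ≫ IsOpenImmersion.lift E.toSpecΓ s hr = e i := by
    rw [← cancel_mono E.toSpecΓ, Category.assoc, IsOpenImmersion.lift_fac]
    exact congrFun hs i
  rw [← Category.assoc, hl, he, Category.comp_id]

theorem eq_of_forall_eval {S : Scheme.{u}} {F : Sp S} (hF : IsAlgSpace F) (hqs : IsQuasiSeparatedSp F)
    (h : Spec (CommRingCat.of (Π i, R i)) ⟶ S) (g₁ g₂ : (yon S).obj (Over.mk h) ⟶ F)
    (heq : ∀ i, (yon S).map (Over.homMk (Spec.map (CommRingCat.ofHom (Pi.evalRingHom (R ·) i))) rfl :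
        Over.mk (Spec.map (CommRingCat.ofHom (Pi.evalRingHom (R ·) i)) ≫ h) ⟶ Over.mk h) ≫ g₁ =
      (yon S).map (Over.homMk (Spec.map (CommRingCat.ofHom (Pi.evalRingHom (R ·) i))) rfl :
        Over.mk (Spec.map (CommRingCat.ofHom (Pi.evalRingHom (R ·) i)) ≫ h) ⟶ Over.mk h) ≫ g₂) :
    g₁ = g₂ := by
  obtain ⟨E, m, fst, sq⟩ := hqs.1 (prod.lift g₁ g₂)
  haveI : QuasiCompact m.left := hqs.2 _ _ _ sq
  haveI : LocallyQuasiFinite m.left := ((Groth.Agent.AlgSpLib.repWith_diag_lqf hF).2 _ _ _ sq).1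
  haveI : LocallyOfFiniteType m.left := ((Groth.Agent.AlgSpLib.repWith_diag_lqf hF).2 _ _ _ sq).2
  haveI : Mono m.left := (Groth.Agent.AlgSpLib.repWith_diag_mono hF).2 _ _ _ sq
  let ev := fun i => (Over.homMk (Spec.map (CommRingCat.ofHom (Pi.evalRingHom (R ·) i))) rfl :
    Over.mk (Spec.map (CommRingCat.ofHom (Pi.evalRingHom (R ·) i)) ≫ h) ⟶ Over.mk h)
  have hex : ∀ i, ∃ e : Spec (R i) ⟶ E.left, e ≫ m.left = Spec.map (CommRingCat.ofHom (Pi.evalRingHom (R ·) i)) :=
    fun i => by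
      obtain ⟨e, he⟩ := (yon S).map_surjective (sq.lift ((yon S).map (ev i) ≫ g₁) ((yon S).map (ev i))
        (prod.hom_ext (by simp) (by simpa using heq i)))
      have : e ≫ m = ev i := (yon S).map_injective (by rw [Functor.map_comp, he, sq.lift_snd])
      exact ⟨e.left, congrArg (fun k => k.left) this⟩
  choose e he using hex
  obtain ⟨l, hl⟩ := exists_section_of_mono R m.left e he
  let l' : Over.mk h ⟶ E := Over.homMk l (by
    show l ≫ E.hom = h
    rw [← Over.w m, ← Category.assoc, hl]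
    exact Category.id_comp _)
  have hlm : l' ≫ m = 𝟙 _ := Over.OverMorphism.ext hl
  have h1 : ((yon S).map l' ≫ fst) ≫ Limits.diag F = prod.lift g₁ g₂ := by
    rw [Category.assoc, sq.w, ← Category.assoc, ← Functor.map_comp, hlm, CategoryTheory.Functor.map_id,
      Category.id_comp]
  have e1 := congrArg (· ≫ (prod.fst : F ⨯ F ⟶ F)) h1
  have e2 := congrArg (· ≫ (prod.snd : F ⨯ F ⟶ F)) h1
  simp only [Category.assoc, prod.lift_fst, prod.lift_snd, Category.comp_id] at e1 e2
  exact e1.symm.trans e2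

end Groth.Agent.SpPointsPi
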